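import Groth.Agent.DeltaFlat.Alg
import Mathlib.AlgebraicGeometry.ResidueField
import Mathlib.AlgebraicGeometry.Pullbacks
import Mathlib.AlgebraicGeometry.Morphisms.Flat
import Mathlib.AlgebraicGeometry.Morphisms.Preimmersion
import Mathlib.RingTheory.AlgebraicIndependent.TranscendenceBasis

/-!
# Transcendence degrees of residue fields under a base change with algebraic residue extension
-/

set_option autoImplicit false
set_option linter.style.haveILetI false

universe u

open CategoryTheory CategoryTheory.Limits AlgebraicGeometry Cardinal

noncomputable section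

namespace Groth.Agent.SHDim93

variable {X Y S' : Scheme.{u}} (f : X ⟶ Y) (g : S' ⟶ Y)

theorem fst_point (x' : ↥(pullback f g)) :
    g.base ((pullback.snd f g).base x') = f.base ((pullback.fst f g).base x') := by
  rw [← Scheme.Hom.comp_apply, ← Scheme.Hom.comp_apply, pullback.condition]

/-- The map `κ(f (fst x')) → κ(snd x')`. -/
def baseRes (x' : ↥(pullback f g)) :
    Y.residueField (f.base ((pullback.fst f g).base x')) ⟶ S'.residueField ((pullback.snd f g).base x') :=
  (Y.residueFieldCongr (fst_point f g x')).inv ≫ g.residueFieldMap ((pullback.snd f g).base x')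

theorem baseRes_comm (x' : ↥(pullback f g)) :
    f.residueFieldMap ((pullback.fst f g).base x') ≫ (pullback.fst f g).residueFieldMap x' =
      baseRes f g x' ≫ (pullback.snd f g).residueFieldMap x' := by
  apply Spec.map_injective
  rw [← cancel_mono (Y.fromSpecResidueField _)]
  simp only [baseRes, Spec.map_comp, Category.assoc, Scheme.residueFieldCongr_inv,
    Scheme.residueFieldCongr_fromSpecResidueField, Scheme.Hom.SpecMap_residueFieldMap_fromSpecResidueField,
    Scheme.Hom.SpecMap_residueFieldMap_fromSpecResidueField_assoc, pullback.condition]

/-- The residue field of a point of the base change is generated by those of its images. -/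
theorem residueField_generated (x' : ↥(pullback f g)) (E : Subfield ((pullback f g).residueField x'))
    (h1 : ∀ l, ((pullback.fst f g).residueFieldMap x').hom l ∈ E)
    (h2 : ∀ z, ((pullback.snd f g).residueFieldMap x').hom z ∈ E) : E = ⊤ := by
  let P := pullback f g
  let inc : CommRingCat.of E ⟶ P.residueField x' := CommRingCat.ofHom E.subtype
  let α : X.residueField ((pullback.fst f g).base x') ⟶ CommRingCat.of E :=
    CommRingCat.ofHom (((pullback.fst f g).residueFieldMap x').hom.codRestrict E h1)
  let β : S'.residueField ((pullback.snd f g).base x') ⟶ CommRingCat.of E :=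
    CommRingCat.ofHom (((pullback.snd f g).residueFieldMap x').hom.codRestrict E h2)
  have hα : α ≫ inc = (pullback.fst f g).residueFieldMap x' := rfl
  have hβ : β ≫ inc = (pullback.snd f g).residueFieldMap x' := rfl
  let u := Spec.map α ≫ X.fromSpecResidueField _
  let v := Spec.map β ≫ S'.fromSpecResidueField _
  have hu : Spec.map inc ≫ u = P.fromSpecResidueField x' ≫ pullback.fst f g := by
    simp only [u, ← Spec.map_comp_assoc, hα, Scheme.Hom.SpecMap_residueFieldMap_fromSpecResidueField]; rfl
  have hv : Spec.map inc ≫ v = P.fromSpecResidueField x' ≫ pullback.snd f g := by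
    simp only [v, ← Spec.map_comp_assoc, hβ, Scheme.Hom.SpecMap_residueFieldMap_fromSpecResidueField]; rfl
  have hinc : Function.Injective inc.hom := E.subtype.injective
  haveI : Flat (Spec.map inc) := by
    refine (HasRingHomProperty.Spec_iff (P := @Flat)).2 ?_
    letI := inc.hom.toAlgebra
    exact RingHom.flat_algebraMap_iff.2 inferInstance
  haveI : Surjective (Spec.map inc) := ⟨fun _ => ⟨IsLocalRing.closedPoint _, Subsingleton.elim _ _⟩⟩
  haveI : Epi (Spec.map inc) := Flat.epi_of_flat_of_surjective _
  have huv : u ≫ f = v ≫ g := by
    rw [← cancel_epi (Spec.map inc), reassoc_of% hu, reassoc_of% hv, pullback.condition]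
  let w := pullback.lift u v huv
  have hw : Spec.map inc ≫ w = P.fromSpecResidueField x' := by
    apply pullback.hom_ext
    · rw [Category.assoc, pullback.lift_fst, hu]
    · rw [Category.assoc, pullback.lift_snd, hv]
  obtain ⟨ψ, hψ⟩ : ∃ ψ : P.residueField x' ⟶ CommRingCat.of E, Spec.map ψ ≫ P.fromSpecResidueField x' = w := by
    have hx : w (IsLocalRing.closedPoint E) = x' := by
      have hpt : Spec.map inc (IsLocalRing.closedPoint _) = IsLocalRing.closedPoint E := Subsingleton.elim _ _
      rw [← hpt, ← Scheme.Hom.comp_apply, hw]
      exact Scheme.fromSpecResidueField_apply _ _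
    refine ⟨(P.residueFieldCongr hx).inv ≫ P.descResidueField (Scheme.stalkClosedPointTo w), ?_⟩
    rw [Spec.map_comp, Category.assoc, Scheme.residueFieldCongr_inv,
      Scheme.residueFieldCongr_fromSpecResidueField]
    exact Scheme.descResidueField_stalkClosedPointTo_fromSpecResidueField _ _ w
  have hid : ψ ≫ inc = 𝟙 _ := by
    apply Spec.map_injective
    rw [← cancel_mono (P.fromSpecResidueField x'), Spec.map_comp, Category.assoc, hψ, hw, Spec.map_id,
      Category.id_comp]
  refine eq_top_iff.2 fun m _ => ?_
  have := DFunLike.congr_fun (congrArg CommRingCat.Hom.hom hid) m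
  have hm : ((ψ.hom m : E) : (pullback f g).residueField x') = m := this
  rw [← hm]
  exact SetLike.coe_mem _

/-- Base change with algebraic residue extension preserves the transcendence degree of residue fields. -/
theorem trdeg_eq (x' : ↥(pullback f g))
    (halg : letI := (baseRes f g x').hom.toAlgebra
      Algebra.IsAlgebraic (Y.residueField (f.base ((pullback.fst f g).base x')))
        (S'.residueField ((pullback.snd f g).base x'))) :
    @Algebra.trdeg ↑(S'.residueField ((pullback.snd f g).base x')) ↑((pullback f g).residueField x') _ _
        ((pullback.snd f g).residueFieldMap x').hom.toAlgebra =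
      @Algebra.trdeg ↑(Y.residueField (f.base ((pullback.fst f g).base x')))
        ↑(X.residueField ((pullback.fst f g).base x')) _ _
        (f.residueFieldMap ((pullback.fst f g).base x')).hom.toAlgebra := by
  refine le_antisymm (DeltaFlat.trdeg_le_of_generated _ (baseRes f g x').hom _ _
    (congrArg CommRingCat.Hom.hom (baseRes_comm f g x')) (residueField_generated f g x')) ?_
  let K := Y.residueField (f.base ((pullback.fst f g).base x'))
  let K' := S'.residueField ((pullback.snd f g).base x')
  let L := X.residueField ((pullback.fst f g).base x')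
  let M := (pullback f g).residueField x'
  letI : Algebra K K' := (baseRes f g x').hom.toAlgebra
  letI : Algebra K L := (f.residueFieldMap ((pullback.fst f g).base x')).hom.toAlgebra
  letI : Algebra K' M := ((pullback.snd f g).residueFieldMap x').hom.toAlgebra
  letI : Algebra K M := (((pullback.snd f g).residueFieldMap x').hom.comp (baseRes f g x').hom).toAlgebra
  haveI : IsScalarTower K K' M := .of_algebraMap_eq fun _ => rfl
  haveI : Algebra.IsAlgebraic K K' := halg
  haveI : FaithfulSMul K K' := (faithfulSMul_iff_algebraMap_injective _ _).2 (algebraMap K K').injective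
  haveI : FaithfulSMul K' M := (faithfulSMul_iff_algebraMap_injective _ _).2 (algebraMap K' M).injective
  have hcomm : ∀ r : K, ((pullback.fst f g).residueFieldMap x').hom (algebraMap K L r) = algebraMap K M r :=
    fun r => DFunLike.congr_fun (congrArg CommRingCat.Hom.hom (baseRes_comm f g x')) r
  let φ : L →ₐ[K] M := { ((pullback.fst f g).residueFieldMap x').hom with commutes' := hcomm }
  have h1 := trdeg_le_of_injective φ φ.toRingHom.injective
  have h2 := trdeg_add_eq K K' (A := M)
  rw [trdeg_eq_zero (R := K) (A := K'), zero_add] at h2
  exact h1.trans h2.ge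

end Groth.Agent.SHDim93
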