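import Groth.Agent.Hensel.EtLike
import Groth.Agent.CycLib.DimFormula
import Groth.Agent.S9126
import Mathlib.RingTheory.Etale.Field
import Mathlib.RingTheory.Ideal.GoingDown
import Mathlib.RingTheory.Unramified.Field

/-!
# Dimensions of primes in (strict) henselizations of universally catenary local rings
-/

set_option autoImplicit false
set_option linter.style.haveILetI false
universe u

open IsLocalRing

namespace Groth.Agent.SHDim93

variable {O R : Type u} [CommRing O] [IsLocalRing O] [IsNoetherianRing O] [CommRing R] [IsLocalRing R] [Algebra O R]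

/-- Residue extensions in an étale-like extension are algebraic: every element satisfies a polynomial
relation over the base modulo any prime. -/
theorem exists_relation (h : Hensel.IsEtLike O R) (P : Ideal R) [P.IsPrime] {K L : Type u} [Field K] [Field L]
    [Algebra K L] (ι : O →+* K) (ev : R →+* L) (hc : ev.comp (algebraMap O R) = (algebraMap K L).comp ι)
    (z : R) : IsAlgebraic K (ev z) := by
  obtain ⟨A, _, _, hA, θ, a, rfl⟩ := h.exists_stage₁ z
  letI : Algebra O K := ι.toAlgebra
  letI : Algebra O L := ((algebraMap K L).comp ι).toAlgebra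
  haveI : IsScalarTower O K L := .of_algebraMap_eq fun _ => rfl
  haveI : Algebra.EssFiniteType K (TensorProduct O K A) := inferInstance
  haveI : Module.Finite K (TensorProduct O K A) :=
    Algebra.FormallyUnramified.finite_of_free K (TensorProduct O K A)
  have hevA : ∀ o, ev (θ (algebraMap O A o)) = algebraMap K L (ι o) := fun o => by
    rw [θ.commutes]; exact RingHom.congr_fun hc o
  let evA : A →ₐ[O] L := { ev.comp θ.toRingHom with commutes' := hevA }
  let F : TensorProduct O K A →ₐ[K] L :=
    Algebra.TensorProduct.lift (Algebra.ofId K L) evA fun _ _ => Commute.all _ _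
  have hF : F (Algebra.TensorProduct.includeRight a) = ev (θ a) := by
    show F ((1 : K) ⊗ₜ a) = _
    rw [Algebra.TensorProduct.lift_tmul, map_one, one_mul]; rfl
  rw [← hF]
  exact ((Algebra.IsIntegral.isIntegral (R := K) (Algebra.TensorProduct.includeRight a :
    TensorProduct O K A)).map F).isAlgebraic

/-- In a (strict) henselization of a universally catenary Noetherian local ring, the quotient by a prime
has the dimension of the quotient of the base by its contraction. -/
theorem ringKrullDim_quotient_eq (h : Hensel.IsEtLike O R) (hcat : CAlg.IsUniversallyCatenary O)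
    (P : Ideal R) [P.IsPrime] :
    ringKrullDim (R ⧸ P) = ringKrullDim (O ⧸ P.comap (algebraMap O R)) := by
  classical
  let p := P.comap (algebraMap O R)
  haveI hpp : p.IsPrime := Ideal.comap_isPrime _ _
  rw [ringKrullDim_quotient, ringKrullDim_quotient]
  refine le_antisymm ?_ ?_
  · refine Order.krullDim_le_of_strictMono
      (fun Q => ⟨PrimeSpectrum.comap (algebraMap O R) Q.1, (PrimeSpectrum.mem_zeroLocus _ _).2
        (Ideal.comap_mono ((PrimeSpectrum.mem_zeroLocus _ _).1 Q.2))⟩) fun Q Q' hQ => ?_
    refine lt_of_le_of_ne (Ideal.comap_mono (le_of_lt hQ) : Q.1.asIdeal.comap _ ≤ _) fun he => ?_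
    exact hQ.ne (Subtype.ext (PrimeSpectrum.ext (h.eq_of_le_of_comap_eq (le_of_lt hQ)
      (congrArg (fun z => z.1.asIdeal) he))))
  haveI : IsNoetherianRing R := h.isNoetherianRing_of_base
  obtain ⟨gen, hgen⟩ := (IsNoetherian.noetherian P : P.FG)
  obtain ⟨A, _, _, hA, θ, hθ⟩ := h.stage gen
  let PA : Ideal A := P.comap θ.toRingHom
  let nA : Ideal A := (maximalIdeal R).comap θ.toRingHom
  haveI : PA.IsPrime := Ideal.comap_isPrime _ _
  haveI : nA.IsPrime := Ideal.comap_isPrime _ _
  have hPn : PA ≤ nA := Ideal.comap_mono (le_maximalIdeal (Ideal.IsPrime.ne_top ‹_›))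
  have hPA : PA.map θ.toRingHom = P := le_antisymm Ideal.map_comap_le (by
    rw [← hgen, Ideal.span_le]
    intro z hz
    obtain ⟨a, rfl⟩ := hθ z hz
    exact Ideal.mem_map_of_mem _ (hgen ▸ Ideal.subset_span hz : θ a ∈ P))
  let B := O ⧸ p
  let D := A ⧸ PA
  letI : Algebra B D := (Ideal.quotientMap PA (algebraMap O A) (fun o ho => by
    show θ (algebraMap O A o) ∈ P; rw [θ.commutes]; exact ho)).toAlgebra
  haveI : IsScalarTower O B D := .of_algebraMap_eq fun _ => rfl
  haveI : Algebra.FiniteType O A := inferInstance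
  haveI : Algebra.FiniteType O D :=
    Algebra.FiniteType.of_surjective (Ideal.Quotient.mkₐ O PA) Ideal.Quotient.mk_surjective
  haveI : Algebra.FiniteType B D := Algebra.FiniteType.of_restrictScalars_finiteType O B D
  haveI : FaithfulSMul B D := (faithfulSMul_iff_algebraMap_injective _ _).2 (by
    rw [injective_iff_map_eq_zero]
    intro b
    obtain ⟨o, rfl⟩ := Ideal.Quotient.mk_surjective b
    intro ho
    have h1 : algebraMap O A o ∈ PA := Ideal.Quotient.eq_zero_iff_mem.1 ho
    refine Ideal.Quotient.eq_zero_iff_mem.2 ?_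
    show algebraMap O R o ∈ P
    rw [← θ.commutes]; exact h1)
  haveI : Nontrivial B := Ideal.Quotient.nontrivial_iff.2 hpp.ne_top
  haveI : IsLocalRing B := IsLocalRing.of_surjective' _ Ideal.Quotient.mk_surjective
  let q : Ideal D := nA.map (Ideal.Quotient.mk PA)
  haveI : q.IsPrime := Ideal.map_isPrime_of_surjective Ideal.Quotient.mk_surjective (by rw [Ideal.mk_ker]; exact hPn)
  have hqn : q.comap (Ideal.Quotient.mk PA) = nA :=
    (Ideal.comap_map_of_surjective' _ Ideal.Quotient.mk_surjective _).trans
      (by rw [Ideal.mk_ker]; exact sup_eq_left.2 hPn)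
  haveI hlo : q.LiesOver (maximalIdeal B) := ⟨by
    refine (maximalIdeal.isMaximal B).eq_of_le (Ideal.IsPrime.ne_top (Ideal.comap_isPrime _ _)) fun b hb => ?_
    obtain ⟨o, rfl⟩ := Ideal.Quotient.mk_surjective b
    show Ideal.Quotient.mk PA (algebraMap O A o) ∈ q
    refine Ideal.mem_map_of_mem _ ?_
    show θ (algebraMap O A o) ∈ maximalIdeal R
    rw [θ.commutes, ← h.map_max]
    refine Ideal.mem_map_of_mem _ ?_
    by_contra ho
    exact (mem_nonunits_iff.1 ((mem_maximalIdeal _).1 hb)) ((notMem_maximalIdeal.1 ho).map _)⟩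
  obtain ⟨hq, hp, t, T, e1, e2, e3, e4, -, heq⟩ := CycLib.height_add_trdeg (maximalIdeal B) q
  have hB : CAlg.IsUniversallyCatenary B := S9126.result O B hcat
  haveI : IsLocalization.AtPrime B (maximalIdeal B) :=
    IsLocalization.self fun x hx => notMem_maximalIdeal.1 hx
  have hsum := heq (CycLib.polyCatAt_of_isLocalization _ B hB)
  have hfinK : ∀ (K L : Type u) [Field K] [Field L] [Algebra K L] (ι : O →+* K) (ev : R →+* L)
      (hc : ev.comp (algebraMap O R) = (algebraMap K L).comp ι) (a : A), IsAlgebraic K (ev (θ a)) :=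
    fun K L _ _ _ ι ev hc a => exists_relation h P ι ev hc (θ a)
  haveI : Algebra.IsAlgebraic B D := by
    obtain ⟨L, _, m, hm⟩ : ∃ (L : Type u) (_ : Field L) (m : R ⧸ P →+* L), Function.Injective m :=
      ⟨FractionRing (R ⧸ P), inferInstance, algebraMap _ _, IsFractionRing.injective _ _⟩
    let K := FractionRing B
    let j : B →+* R ⧸ P := Ideal.quotientMap P (algebraMap O R) le_rfl
    have hj : Function.Injective j := Ideal.quotientMap_injective
    letI : Algebra K L := (IsFractionRing.lift (g := m.comp j) (hm.comp hj)).toAlgebra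
    let i : D →+* R ⧸ P := Ideal.quotientMap P θ.toRingHom le_rfl
    have hi : Function.Injective i := Ideal.quotientMap_injective
    letI : Algebra B L := (m.comp j).toAlgebra
    haveI : IsScalarTower B K L := .of_algebraMap_eq fun b => (IsLocalization.lift_eq _ b).symm
    refine ⟨fun d => ?_⟩
    obtain ⟨a, rfl⟩ := Ideal.Quotient.mk_surjective d
    have hiL : ∀ b : B, m (i (algebraMap B D b)) = m (j b) := fun b => by
      obtain ⟨o, rfl⟩ := Ideal.Quotient.mk_surjective b
      show m (Ideal.Quotient.mk P (θ (algebraMap O A o))) = _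
      rw [θ.commutes]; rfl
    let iL : D →ₐ[B] L := { m.comp i with commutes' := hiL }
    refine (isAlgebraic_algHom_iff iL (hm.comp hi)).1 ?_
    refine (IsFractionRing.isAlgebraic_iff B K L).2 ?_
    refine hfinK K L ((algebraMap B K).comp (Ideal.Quotient.mk p))
      (m.comp (Ideal.Quotient.mk P)) (RingHom.ext fun o => ?_) a
    exact (IsScalarTower.algebraMap_apply B K L (Ideal.Quotient.mk p o))
  haveI : Algebra.IsAlgebraic (B ⧸ maximalIdeal B) (D ⧸ q) := by
    haveI : Nontrivial (D ⧸ q) := Ideal.Quotient.nontrivial_iff.2 (Ideal.IsPrime.ne_top ‹_›)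
    let k₀ := B ⧸ maximalIdeal B
    letI : Field k₀ := Ideal.Quotient.field _
    let L := ResidueField R
    let i : D ⧸ q →+* L := Ideal.Quotient.lift q
      (Ideal.Quotient.lift PA ((residue R).comp θ.toRingHom) fun a ha => (residue_eq_zero_iff _).2 (hPn ha))
      fun d hd => by
        obtain ⟨a, rfl⟩ := Ideal.Quotient.mk_surjective d
        exact (residue_eq_zero_iff _).2 (hqn.le hd)
    have hi : Function.Injective i := by
      rw [injective_iff_map_eq_zero]
      intro d
      obtain ⟨d, rfl⟩ := Ideal.Quotient.mk_surjective d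
      obtain ⟨a, rfl⟩ := Ideal.Quotient.mk_surjective d
      intro ha
      exact Ideal.Quotient.eq_zero_iff_mem.2 (hqn.ge ((residue_eq_zero_iff _).1 ha))
    letI : Algebra k₀ L := (i.comp (algebraMap k₀ (D ⧸ q))).toAlgebra
    let iA : D ⧸ q →ₐ[k₀] L := { i with commutes' := fun _ => rfl }
    refine ⟨fun d => (isAlgebraic_algHom_iff iA hi).1 ?_⟩
    obtain ⟨d, rfl⟩ := Ideal.Quotient.mk_surjective d
    obtain ⟨a, rfl⟩ := Ideal.Quotient.mk_surjective d
    exact hfinK k₀ L ((Ideal.Quotient.mk _).comp (Ideal.Quotient.mk p)) (residue R) (RingHom.ext fun o => by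
      show residue R (algebraMap O R o) = residue R (θ (algebraMap O A o))
      rw [θ.commutes]) a
  have ht : t = 0 := by
    have := e3.symm.trans (trdeg_eq_zero (R := B ⧸ maximalIdeal B) (A := D ⧸ q))
    exact_mod_cast this
  have hT : T = 0 := by
    have := e4.symm.trans (trdeg_eq_zero (R := B) (A := D))
    exact_mod_cast this
  -- lift a chain below `q`
  have hge : (q.height : WithBot ℕ∞) = ringKrullDim B := by
    rw [← IsLocalRing.maximalIdeal_height_eq_ringKrullDim, e1, e2]
    rw [show hq = hp by omega]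
  rw [← ringKrullDim_quotient, ← hge]
  letI : Algebra A R := θ.toRingHom.toAlgebra
  haveI : IsScalarTower O A R := .of_algebraMap_eq' θ.comp_algebraMap.symm
  haveI := h.flat
  haveI : Module.Flat A R := Algebra.FormallyUnramified.flat_of_restrictScalars O A R
  obtain ⟨s, hl, hlast⟩ : ∃ s : LTSeries (PrimeSpectrum D), (s.length : ℕ∞) = q.height ∧ s.last.asIdeal = q := by
    obtain ⟨s, hs1, hs2⟩ := Order.exists_series_of_height_eq_coe (⟨q, ‹_›⟩ : PrimeSpectrum D)
      ((PrimeSpectrum.height_eq_orderHeight (⟨q, ‹_›⟩ : PrimeSpectrum D)).symm.trans e1)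
    exact ⟨s, by rw [hs2, e1], congrArg PrimeSpectrum.asIdeal hs1⟩
  rw [← hl]
  let c : LTSeries (PrimeSpectrum A) := s.map (PrimeSpectrum.comap (Ideal.Quotient.mk PA))
    (Monotone.strictMono_of_injective (fun _ _ h => Ideal.comap_mono h)
      (PrimeSpectrum.comap_injective_of_surjective _ Ideal.Quotient.mk_surjective))
  haveI : (maximalIdeal R).LiesOver c.last.asIdeal := ⟨by
    show (s.last.asIdeal).comap (Ideal.Quotient.mk PA) = (maximalIdeal R).comap (algebraMap A R)
    rw [hlast, hqn]; rfl⟩
  obtain ⟨L, hLlen, -, hLmap⟩ := Ideal.exists_ltSeries_of_hasGoingDown c (maximalIdeal R)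
  have hLP : P ≤ L.head.asIdeal := by
    have h0 : L.head.asIdeal.comap (algebraMap A R) = c.head.asIdeal := by
      have := congrArg List.head? hLmap
      rw [List.head?_map, List.head?_eq_some_head L.toList_ne_nil, List.head?_eq_some_head c.toList_ne_nil,
        RelSeries.head_toList, RelSeries.head_toList] at this
      exact congrArg PrimeSpectrum.asIdeal (Option.some.inj this)
    rw [← hPA, Ideal.map_le_iff_le_comap]
    refine le_trans ?_ h0.ge
    intro a ha
    show Ideal.Quotient.mk PA a ∈ s.head.asIdeal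
    rw [Ideal.Quotient.eq_zero_iff_mem.2 ha]
    exact Submodule.zero_mem _
  let L' : LTSeries (PrimeSpectrum.zeroLocus (P : Set R)) :=
    { length := L.length
      toFun := fun i => ⟨L i, (PrimeSpectrum.mem_zeroLocus _ _).2 (hLP.trans (L.monotone (Fin.zero_le i)))⟩
      step := fun i => L.step i }
  refine le_trans ?_ (Order.LTSeries.length_le_krullDim L')
  show ((s.length : ℕ∞) : WithBot ℕ∞) ≤ (L.length : WithBot ℕ∞)
  have : L.length = s.length := hLlen
  rw [this]; rfl

end Groth.Agent.SHDim93
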